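import Mathlib.RingTheory.AdicCompletion.LocalRing
import Mathlib.RingTheory.AdicCompletion.RingHom
import Mathlib.RingTheory.TensorProduct.Basic
import Mathlib.RingTheory.Localization.AtPrime.Basic
import Mathlib.RingTheory.Jacobson.Ideal
import Mathlib.Algebra.Category.Ring.Basic
import Mathlib.CategoryTheory.MorphismProperty.Basic

/-!
# Ring maps inducing bijections modulo powers of the maximal ideal

Base change to a completion at a prime over the completed ideal, and completions.
-/

set_option autoImplicit false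
set_option linter.style.haveILetI false

universe u

open TensorProduct CategoryTheory

noncomputable section

namespace Groth.Agent.CplBC

/-- The Jacobson radical. -/
abbrev J (R : Type u) [CommRing R] : Ideal R := (⊥ : Ideal R).jacobson

theorem map_J {R S : Type u} [CommRing R] [CommRing S] (e : R ≃+* S) (n : ℕ) (x : R) :
    e x ∈ J S ^ n ↔ x ∈ J R ^ n := by
  have h : (J R).map e.toRingHom = J S := by
    rw [J, J, Ideal.map_jacobson_of_bijective (hf := e.bijective), Ideal.map_bot]
  rw [← h, ← Ideal.map_pow]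
  exact ⟨fun hx => by
    obtain ⟨y, hy, hyx⟩ := (Ideal.mem_map_iff_of_surjective e.toRingHom e.surjective).1 hx
    exact e.injective hyx ▸ hy, Ideal.mem_map_of_mem _⟩

/-- The map is bijective modulo the `n`-th powers of the radicals. -/
def QB (n : ℕ) {R S : Type u} [CommRing R] [CommRing S] (ψ : R →+* S) : Prop :=
  (∀ c, ∃ b, c - ψ b ∈ J S ^ n) ∧ ∀ b, ψ b ∈ J S ^ n ↔ b ∈ J R ^ n

/-- `QB` as a property of morphisms of rings. -/
def QBProp (n : ℕ) : MorphismProperty CommRingCat.{u} := fun _ _ f => QB n f.hom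

theorem QB.comp_equiv {n : ℕ} {R S R' S' : Type u} [CommRing R] [CommRing S] [CommRing R'] [CommRing S']
    {ψ : R →+* S} (h : QB n ψ) (e : R' ≃+* R) (e' : S ≃+* S') :
    QB n (e'.toRingHom.comp (ψ.comp e.toRingHom)) := by
  refine ⟨fun c => ?_, fun b => ?_⟩
  · obtain ⟨b, hb⟩ := h.1 (e'.symm c)
    refine ⟨e.symm b, ?_⟩
    have := (map_J e' n _).2 hb
    simpa using this
  · show e' (ψ (e b)) ∈ J S' ^ n ↔ _
    rw [map_J e', h.2, map_J e]

instance (n : ℕ) : (QBProp.{u} n).RespectsIso := by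
  refine MorphismProperty.RespectsIso.mk _ (fun {X Y Z} e f hf => ?_) fun {X Y Z} e f hf => ?_
  · show QB n (e.hom ≫ f).hom
    have h := QB.comp_equiv hf e.commRingCatIsoToRingEquiv (RingEquiv.refl _)
    exact h
  · show QB n (f ≫ e.hom).hom
    have h := QB.comp_equiv hf (RingEquiv.refl _) e.commRingCatIsoToRingEquiv
    exact h

section BaseChange

variable {A Ah R : Type u} [CommRing A] [CommRing Ah] [CommRing R] [Algebra A Ah] [Algebra A R]

theorem exists_sub_mem_map (K : Ideal A) (h : ∀ x : Ah, ∃ a : A, x - algebraMap A Ah a ∈ K.map (algebraMap A Ah))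
    (t : R ⊗[A] Ah) : ∃ r : R, t - r ⊗ₜ[A] (1 : Ah) ∈ K.map (algebraMap A (R ⊗[A] Ah)) := by
  induction t using TensorProduct.induction_on with
  | zero => exact ⟨0, by simp⟩
  | add x y hx hy =>
    obtain ⟨r, hr⟩ := hx
    obtain ⟨s, hs⟩ := hy
    exact ⟨r + s, by rw [add_tmul, add_sub_add_comm]; exact add_mem hr hs⟩
  | tmul r x =>
    obtain ⟨a, ha⟩ := h x
    refine ⟨a • r, ?_⟩
    rw [smul_tmul, Algebra.smul_def, mul_one, ← tmul_sub]
    have h1 : (1 : R) ⊗ₜ[A] (x - algebraMap A Ah a) ∈ K.map (algebraMap A (R ⊗[A] Ah)) := by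
      have h2 := Ideal.mem_map_of_mem (Algebra.TensorProduct.includeRight (R := A) (A := R) (B := Ah)).toRingHom ha
      rw [Ideal.map_map, show (Algebra.TensorProduct.includeRight (R := A) (A := R) (B := Ah)).toRingHom.comp (algebraMap A Ah) = algebraMap A (R ⊗[A] Ah) from RingHom.ext fun y => (Algebra.TensorProduct.includeRight (R := A) (A := R) (B := Ah)).commutes y] at h2
      exact h2
    have h3 := Ideal.mul_mem_left _ (r ⊗ₜ[A] (1 : Ah)) h1
    rwa [Algebra.TensorProduct.tmul_mul_tmul, mul_one, one_mul] at h3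

variable (I : Ideal A) (n : ℕ)

/-- Localisations at corresponding primes agree modulo powers of the maximal ideals. -/
theorem qb_localRingHom (hn : 1 ≤ n)
    (hsurj : ∀ x : Ah, ∃ a : A, x - algebraMap A Ah a ∈ (I ^ n).map (algebraMap A Ah))
    (ε : Ah →ₐ[A] A ⧸ I ^ n) (Q : Ideal (R ⊗[A] Ah)) [Q.IsPrime] (hIQ : I.map (algebraMap A (R ⊗[A] Ah)) ≤ Q)
    (P : Ideal R) [P.IsPrime] (hP : P = Q.comap (Algebra.TensorProduct.includeLeftRingHom : R →+* R ⊗[A] Ah)) :
    QB n (Localization.localRingHom P Q (Algebra.TensorProduct.includeLeftRingHom : R →+* R ⊗[A] Ah) hP) := by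
  let T := R ⊗[A] Ah
  let B := Localization.AtPrime P
  let C := Localization.AtPrime Q
  let ι : R →+* T := Algebra.TensorProduct.includeLeftRingHom
  let ψ := Localization.localRingHom P Q ι hP
  let mB := IsLocalRing.maximalIdeal B
  have hJB : J B = mB := IsLocalRing.jacobson_eq_maximalIdeal _ bot_ne_top
  have hJC : J C = IsLocalRing.maximalIdeal C := IsLocalRing.jacobson_eq_maximalIdeal _ bot_ne_top
  have hIP : I.map (algebraMap A B) ≤ mB := by
    rw [Ideal.map_le_iff_le_comap]
    intro a ha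
    rw [Ideal.mem_comap, IsScalarTower.algebraMap_apply A R B, IsLocalization.AtPrime.to_map_mem_maximal_iff B P, hP,
      Ideal.mem_comap]
    exact hIQ (Ideal.mem_map_of_mem _ ha)
  have hker : ∀ a ∈ I ^ n, algebraMap A (B ⧸ mB ^ n) a = 0 := fun a ha => by
    rw [IsScalarTower.algebraMap_apply A B (B ⧸ mB ^ n), Ideal.Quotient.algebraMap_eq, Ideal.Quotient.eq_zero_iff_mem]
    exact Ideal.pow_right_mono hIP n (Ideal.map_pow (algebraMap A B) I n ▸ Ideal.mem_map_of_mem _ ha)
  let χ : T →ₐ[A] B ⧸ mB ^ n := Algebra.TensorProduct.lift (IsScalarTower.toAlgHom A R (B ⧸ mB ^ n))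
    ((Ideal.Quotient.liftₐ (I ^ n) (Algebra.ofId A (B ⧸ mB ^ n)) hker).comp ε) fun _ _ => Commute.all _ _
  have hχι : ∀ r : R, χ (r ⊗ₜ[A] (1 : Ah)) = Ideal.Quotient.mk (mB ^ n) (algebraMap R B r) := fun r => by
    rw [Algebra.TensorProduct.lift_tmul, map_one, mul_one]
    rfl
  have hχK : ∀ t ∈ (I ^ n).map (algebraMap A T), χ t = 0 := by
    intro t ht
    have h : (I ^ n).map (algebraMap A T) ≤ RingHom.ker χ.toRingHom := by
      rw [Ideal.map_le_iff_le_comap]
      intro a ha
      show χ (algebraMap A T a) = 0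
      rw [AlgHom.commutes]
      exact hker a ha
    exact h ht
  have hKQ : (I ^ n).map (algebraMap A T) ≤ Q ^ n := by
    rw [Ideal.map_pow]; exact Ideal.pow_right_mono hIQ n
  have hKC : ∀ t ∈ (I ^ n).map (algebraMap A T), algebraMap T C t ∈ J C ^ n := fun t ht => by
    rw [hJC, ← Localization.AtPrime.map_eq_maximalIdeal, ← Ideal.map_pow]
    exact Ideal.mem_map_of_mem _ (hKQ ht)
  have hmk : ∀ r : R, ∀ t : T, t - r ⊗ₜ[A] (1 : Ah) ∈ (I ^ n).map (algebraMap A T) → (t ∈ Q ↔ r ∈ P) := fun r t h => by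
    have h' : t - r ⊗ₜ[A] (1 : Ah) ∈ Q := (hKQ.trans (Ideal.pow_le_self (by omega))) h
    rw [hP, Ideal.mem_comap]
    exact ⟨fun ht => (Submodule.sub_mem_iff_right Q ht).1 h', fun hr => (Submodule.sub_mem_iff_left Q hr).1 h'⟩
  have hdec := exists_sub_mem_map (R := R) (I ^ n) hsurj
  have hunit : ∀ t : Q.primeCompl, IsUnit (χ t.1) := fun t => by
    obtain ⟨r, hr⟩ := hdec t.1
    have h : χ t.1 = Ideal.Quotient.mk (mB ^ n) (algebraMap R B r) := by
      rw [← hχι, ← sub_eq_zero, ← map_sub, hχK _ hr]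
    rw [h]
    exact (IsLocalization.map_units B (⟨r, fun hrP => t.2 ((hmk r t.1 hr).2 hrP)⟩ : P.primeCompl)).map _
  let χ' : C →+* B ⧸ mB ^ n := IsLocalization.lift (M := Q.primeCompl) (g := χ.toRingHom) hunit
  have hχ' : ∀ b : B, χ' (ψ b) = Ideal.Quotient.mk (mB ^ n) b := fun b => by
    have h : χ'.comp ψ = Ideal.Quotient.mk (mB ^ n) := by
      refine IsLocalization.ringHom_ext P.primeCompl (RingHom.ext fun r => ?_)
      show χ' (ψ (algebraMap R B r)) = _
      rw [Localization.localRingHom_to_map]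
      exact (IsLocalization.lift_eq hunit (ι r)).trans (hχι r)
    exact RingHom.congr_fun h b
  refine ⟨fun c => ?_, fun b => ⟨fun hb => ?_, fun hb => ?_⟩⟩
  · obtain ⟨t, s, rfl⟩ := IsLocalization.exists_mk'_eq Q.primeCompl c
    obtain ⟨r, hr⟩ := hdec t
    obtain ⟨v, hv⟩ := hdec s.1
    have hvP : v ∈ P.primeCompl := fun h => s.2 ((hmk v s.1 hv).2 h)
    refine ⟨IsLocalization.mk' B r ⟨v, hvP⟩, ?_⟩
    set w := ψ (IsLocalization.mk' B r ⟨v, hvP⟩) with hw
    have e2 : w * algebraMap T C (ι v) = algebraMap T C (ι r) := by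
      rw [hw, ← Localization.localRingHom_to_map P Q ι hP, ← map_mul, IsLocalization.mk'_spec,
        Localization.localRingHom_to_map]
    have e1 : (IsLocalization.mk' C t s - w) * algebraMap T C s.1 =
        algebraMap T C (t - ι r) - w * algebraMap T C (s.1 - ι v) := by
      rw [map_sub, map_sub, mul_sub, e2, sub_mul, IsLocalization.mk'_spec]
      ring
    refine (Ideal.mul_unit_mem_iff_mem _ (IsLocalization.map_units C s)).1 ?_
    rw [e1]
    exact sub_mem (hKC _ hr) (Ideal.mul_mem_left _ _ (hKC _ hv))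
  · have hQ : ∀ t ∈ Q, χ t ∈ mB.map (Ideal.Quotient.mk (mB ^ n)) := fun t ht => by
      obtain ⟨r, hr⟩ := hdec t
      have h : χ t = Ideal.Quotient.mk (mB ^ n) (algebraMap R B r) := by
        rw [← hχι, ← sub_eq_zero, ← map_sub, hχK _ hr]
      rw [h]
      exact Ideal.mem_map_of_mem _ ((IsLocalization.AtPrime.to_map_mem_maximal_iff B P r).2 ((hmk r t hr).1 ht))
    have hle : (J C ^ n).map χ' ≤ ⊥ := by
      rw [hJC, ← Localization.AtPrime.map_eq_maximalIdeal, Ideal.map_pow, Ideal.map_map, IsLocalization.lift_comp hunit]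
      refine le_trans (Ideal.pow_right_mono (show Q.map χ.toRingHom ≤ mB.map (Ideal.Quotient.mk (mB ^ n)) from
        Ideal.map_le_iff_le_comap.2 fun t ht => hQ t ht) n) ?_
      rw [← Ideal.map_pow, Ideal.map_quotient_self]
    have h0 := hle (Ideal.mem_map_of_mem χ' hb)
    rw [hχ', Ideal.mem_bot, Ideal.Quotient.eq_zero_iff_mem] at h0
    rwa [hJB]
  · rw [hJB] at hb
    rw [hJC]
    have h := Ideal.mem_map_of_mem ψ hb
    rw [Ideal.map_pow] at h
    exact Ideal.pow_right_mono (haveI : IsLocalHom ψ := Localization.isLocalHom_localRingHom P Q ι hP; ((IsLocalRing.local_hom_TFAE ψ).out 0 2).1 this) n h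

end BaseChange

section Completion

/-- Levelwise bijectivity gives isomorphic completions. -/
theorem nonempty_completion_equiv {B C : Type u} [CommRing B] [CommRing C] (P : Ideal B) (Q : Ideal C) (ψ : B →+* C)
    (h : ∀ n, P ^ n ≤ (Q ^ n).comap ψ) (hbij : ∀ n, Function.Bijective (Ideal.quotientMap (Q ^ n) ψ (h n))) :
    Nonempty (AdicCompletion P B ≃+* AdicCompletion Q C) := by
  let e : ∀ n, B ⧸ P ^ n ≃+* C ⧸ Q ^ n := fun n => RingEquiv.ofBijective _ (hbij n)
  have hnat : ∀ {m n : ℕ} (hle : m ≤ n) (x : B ⧸ P ^ n),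
      Ideal.Quotient.factorPow Q hle (e n x) = e m (Ideal.Quotient.factorPow P hle x) := fun hle x => by
    obtain ⟨b, rfl⟩ := Ideal.Quotient.mk_surjective x
    rfl
  have hev : ∀ {R : Type u} [CommRing R] (I : Ideal R) {m n : ℕ} (hle : m ≤ n) (x : AdicCompletion I R),
      Ideal.Quotient.factorPow I hle (AdicCompletion.evalₐ I n x) = AdicCompletion.evalₐ I m x := by
    intro R _ I m n hle x
    obtain ⟨c, rfl⟩ := AdicCompletion.mk_surjective I R x
    rw [AdicCompletion.evalₐ_mk, AdicCompletion.evalₐ_mk]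
    exact (Ideal.Quotient.eq.2 (by
      have := c.2 hle
      rw [smul_eq_mul, Ideal.mul_top, SModEq.sub_mem] at this
      simpa using neg_mem this))
  let F := AdicCompletion.liftRingHom Q (fun n => (e n).toRingHom.comp (AdicCompletion.evalₐ P n).toRingHom)
    fun hle => RingHom.ext fun x => (hnat hle _).trans (congrArg (e _) (hev P hle x))
  let G := AdicCompletion.liftRingHom P (fun n => (e n).symm.toRingHom.comp (AdicCompletion.evalₐ Q n).toRingHom)
    fun {m n} hle => RingHom.ext fun x => (e m).injective (by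
      show e m (Ideal.Quotient.factorPow P hle ((e n).symm _)) = e m ((e m).symm _)
      rw [← hnat, RingEquiv.apply_symm_apply, RingEquiv.apply_symm_apply]
      exact hev Q hle x)
  exact ⟨RingEquiv.ofRingHom F G
    (RingHom.ext fun x => AdicCompletion.ext_evalₐ fun n => by
      simp only [F, G, RingHom.comp_apply, AdicCompletion.evalₐ_liftRingHom, RingHom.id_apply]
      show e n (AdicCompletion.evalₐ P n (AdicCompletion.liftRingHom P _ _ x)) = _
      rw [AdicCompletion.evalₐ_liftRingHom]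
      exact (e n).apply_symm_apply _)
    (RingHom.ext fun x => AdicCompletion.ext_evalₐ fun n => by
      simp only [F, G, RingHom.comp_apply, AdicCompletion.evalₐ_liftRingHom, RingHom.id_apply]
      show (e n).symm (AdicCompletion.evalₐ Q n (AdicCompletion.liftRingHom Q _ _ x)) = _
      rw [AdicCompletion.evalₐ_liftRingHom]
      exact (e n).symm_apply_apply _)⟩

end Completion

end Groth.Agent.CplBC
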