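import Groth.Agent.CplBC.Alg
import Groth.Prelude.Def_Curv2
import Mathlib.AlgebraicGeometry.PullbackCarrier

/-!
# Local rings of the base change to the completion
-/

set_option autoImplicit false
set_option linter.style.haveILetI false
set_option backward.isDefEq.respectTransparency false
set_option backward.isDefEq.respectTransparency.types false

universe u

open CategoryTheory CategoryTheory.Limits AlgebraicGeometry TensorProduct

noncomputable section

namespace Groth.Agent.CplBC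

variable (A : Type u) [CommRing A] [IsLocalRing A]

theorem exists_sub_mem (hm : (IsLocalRing.maximalIdeal A).FG) (n : ℕ) (x : Curv2.cpl A) :
    ∃ a : A, x - algebraMap A (Curv2.cpl A) a ∈ (IsLocalRing.maximalIdeal A ^ n).map (algebraMap A (Curv2.cpl A)) := by
  obtain ⟨a, ha⟩ := Submodule.Quotient.mk_surjective _ (x.1 n)
  refine ⟨a, ?_⟩
  rw [← Submodule.restrictScalars_mem A, ← Ideal.smul_top_eq_map, AdicCompletion.pow_smul_top_eq_ker_eval hm,
    LinearMap.mem_ker, map_sub, sub_eq_zero]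
  exact ha.symm

variable {A}

/-- At points over the closed point the local rings of the base change agree modulo powers. -/
theorem qbProp_stalkMap (hm : (IsLocalRing.maximalIdeal A).FG) {X : Scheme.{u}} (f : X ⟶ Spec (CommRingCat.of A))
    (q : ↥(Curv2.bcCpl A f)) (hq : f.base ((Curv2.bcCplFst A f).base q) = IsLocalRing.closedPoint A) {n : ℕ}
    (hn : 1 ≤ n) : QBProp n ((Curv2.bcCplFst A f).stalkMap q) := by
  let Ah := Curv2.cpl A
  let g := Spec.map (CommRingCat.ofHom (algebraMap A Ah))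
  obtain ⟨U, hU, hpU, -⟩ := exists_isAffineOpen_mem_and_subset
    (X := X) (x := (Curv2.bcCplFst A f).base q) (U := ⊤) trivial
  obtain ⟨φ, hφ⟩ := Spec.map_surjective (hU.fromSpec ≫ f)
  letI : Algebra A Γ(X, U) := φ.hom.toAlgebra
  let R : Type u := Γ(X, U)
  let φ' := CommRingCat.ofHom (algebraMap A R)
  have hφ' : Spec.map φ' = hU.fromSpec ≫ f := hφ
  let μ : pullback (Spec.map φ') g ⟶ pullback f g :=
    pullback.map (Spec.map φ') g f g hU.fromSpec (𝟙 _) (𝟙 _) (by rw [Category.comp_id, hφ']) (by simp)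
  haveI hμ : IsOpenImmersion μ := inferInstance
  let j : Spec (CommRingCat.of (R ⊗[A] Ah)) ⟶ Curv2.bcCpl A f := (pullbackSpecIso A R Ah).inv ≫ μ
  have hj : j ≫ Curv2.bcCplFst A f =
      Spec.map (CommRingCat.ofHom (Algebra.TensorProduct.includeLeftRingHom : R →+* R ⊗[A] Ah)) ≫ hU.fromSpec := by
    show ((pullbackSpecIso A R Ah).inv ≫ μ) ≫ pullback.fst f g = _
    rw [Category.assoc, show μ ≫ pullback.fst f g = pullback.fst (Spec.map φ') g ≫ hU.fromSpec from
      pullback.lift_fst _ _ _, ← Category.assoc]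
    exact congrArg (· ≫ hU.fromSpec) (pullbackSpecIso_inv_fst A R Ah)
  obtain ⟨Q, rfl⟩ : ∃ Q, j.base Q = q := by
    have h : q ∈ Set.range μ.base := by
      rw [Scheme.Pullback.range_map]
      exact ⟨hU.range_fromSpec.ge hpU, ⟨_, rfl⟩⟩
    obtain ⟨z, rfl⟩ := h
    exact ⟨(pullbackSpecIso A R Ah).hom.base z, by
      show ((pullbackSpecIso A R Ah).hom ≫ (pullbackSpecIso A R Ah).inv ≫ μ).base z = _
      rw [Iso.hom_inv_id_assoc]⟩
  have hclosed : (IsLocalRing.maximalIdeal A).map (algebraMap A (R ⊗[A] Ah)) ≤ Q.asIdeal := by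
    have h1 : (j ≫ Curv2.bcCplFst A f ≫ f).base Q = IsLocalRing.closedPoint A := hq
    rw [← Category.assoc, hj, Category.assoc, ← hφ', ← Spec.map_comp] at h1
    have h2 : PrimeSpectrum.comap (φ' ≫ CommRingCat.ofHom
        (Algebra.TensorProduct.includeLeftRingHom : R →+* R ⊗[A] Ah)).hom Q = IsLocalRing.closedPoint A := h1
    have h3 := congrArg PrimeSpectrum.asIdeal h2
    rw [Ideal.map_le_iff_le_comap]
    exact h3.ge
  have halg := qb_localRingHom (IsLocalRing.maximalIdeal A) n hn (exists_sub_mem A hm n) (AdicCompletion.evalₐ _ n)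
    Q.asIdeal hclosed (Q.asIdeal.comap (Algebra.TensorProduct.includeLeftRingHom : R →+* R ⊗[A] Ah)) rfl
  have h1 : QBProp n ((Spec.map (CommRingCat.ofHom
      (Algebra.TensorProduct.includeLeftRingHom : R →+* R ⊗[A] Ah))).stalkMap Q) :=
    (MorphismProperty.arrow_mk_iso_iff (QBProp n) (Scheme.arrowStalkMapSpecIso _ Q)).2 halg
  have h2 : QBProp n ((j ≫ Curv2.bcCplFst A f).stalkMap Q) := by
    have e : ∀ (a b : Spec (CommRingCat.of (R ⊗[A] Ah)) ⟶ X), a = b → QBProp n (b.stalkMap Q) → QBProp n (a.stalkMap Q) := by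
      rintro a _ rfl h; exact h
    refine e _ _ hj ?_
    rw [Scheme.Hom.stalkMap_comp, MorphismProperty.cancel_left_of_respectsIso (QBProp n)]
    exact h1
  rw [Scheme.Hom.stalkMap_comp, MorphismProperty.cancel_right_of_respectsIso (QBProp n)] at h2
  exact h2

/-- The quotient maps are bijective. -/
theorem bijective_quotientMap (hm : (IsLocalRing.maximalIdeal A).FG) {X : Scheme.{u}} (f : X ⟶ Spec (CommRingCat.of A))
    (q : ↥(Curv2.bcCpl A f)) (hq : f.base ((Curv2.bcCplFst A f).base q) = IsLocalRing.closedPoint A) (n : ℕ)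
    (h : IsLocalRing.maximalIdeal (X.presheaf.stalk ((Curv2.bcCplFst A f).base q)) ^ n ≤
      (IsLocalRing.maximalIdeal ((Curv2.bcCpl A f).presheaf.stalk q) ^ n).comap ((Curv2.bcCplFst A f).stalkMap q).hom) :
    Function.Bijective (Ideal.quotientMap (IsLocalRing.maximalIdeal ((Curv2.bcCpl A f).presheaf.stalk q) ^ n)
      ((Curv2.bcCplFst A f).stalkMap q).hom h) := by
  rcases Nat.eq_zero_or_pos n with rfl | hn
  · haveI : Subsingleton ((Curv2.bcCpl A f).presheaf.stalk q ⧸
        IsLocalRing.maximalIdeal ((Curv2.bcCpl A f).presheaf.stalk q) ^ 0) :=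
      Ideal.Quotient.subsingleton_iff.2 (by rw [pow_zero, Ideal.one_eq_top])
    haveI : Subsingleton ((X.presheaf.stalk ((Curv2.bcCplFst A f).base q)) ⧸
        IsLocalRing.maximalIdeal (X.presheaf.stalk ((Curv2.bcCplFst A f).base q)) ^ 0) :=
      Ideal.Quotient.subsingleton_iff.2 (by rw [pow_zero, Ideal.one_eq_top])
    exact ⟨Function.injective_of_subsingleton _, fun y => ⟨0, Subsingleton.elim _ _⟩⟩
  obtain ⟨h1, h2⟩ := qbProp_stalkMap hm f q hq hn
  simp only [J, IsLocalRing.jacobson_eq_maximalIdeal _ bot_ne_top] at h1 h2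
  refine ⟨?_, fun y => ?_⟩
  · rw [injective_iff_map_eq_zero]
    intro x hx
    obtain ⟨b, rfl⟩ := Ideal.Quotient.mk_surjective x
    rw [Ideal.quotientMap_mk, Ideal.Quotient.eq_zero_iff_mem] at hx
    exact Ideal.Quotient.eq_zero_iff_mem.2 ((h2 b).1 hx)
  · obtain ⟨c, rfl⟩ := Ideal.Quotient.mk_surjective y
    obtain ⟨b, hb⟩ := h1 c
    exact ⟨Ideal.Quotient.mk _ b, by rw [Ideal.quotientMap_mk]; exact (Ideal.Quotient.eq.2 hb).symm⟩

end Groth.Agent.CplBC
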