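import Groth.Agent.CplBC.Scheme
import Groth.Agent.S2102
import Groth.Agent.S6279
import Groth.Agent.Props.Components
import Groth.Agent.GeomFieldLib.NormalRing
import Groth.Agent.EGA4Lib.FibreBC
import Mathlib.AlgebraicGeometry.Morphisms.Flat
import Mathlib.Algebra.Category.Ring.Constructions
import Mathlib.RingTheory.AdicCompletion.AsTensorProduct

/-!
# Global functions of the base change to the completion; global functions of normal schemes
-/

set_option autoImplicit false
set_option linter.style.haveILetI false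
set_option backward.isDefEq.respectTransparency false
set_option backward.isDefEq.respectTransparency.types false

universe u

open CategoryTheory CategoryTheory.Limits AlgebraicGeometry TensorProduct TopologicalSpace Opposite

noncomputable section

namespace Groth.Agent.CplBC

/-- Global functions commute with completion of the base. -/
theorem nonempty_sections_equiv (A : Type u) [CommRing A] [IsLocalRing A] [IsNoetherianRing A] {X : Scheme.{u}}
    [CompactSpace X] [QuasiSeparatedSpace X] (f : X ⟶ Spec (CommRingCat.of A)) :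
    letI : Algebra A Γ(X, ⊤) := (Coh.toGlobal f).toAlgebra
    Nonempty (Γ(Curv2.bcCpl A f, ⊤) ≃+* (Γ(X, ⊤) ⊗[A] Curv2.cpl A)) := by
  letI : Algebra A Γ(X, ⊤) := (Coh.toGlobal f).toAlgebra
  let Ah := Curv2.cpl A
  let g := Spec.map (CommRingCat.ofHom (algebraMap A Ah))
  haveI : Flat g := Flat.SpecMap_iff.2 (RingHom.flat_algebraMap_iff.2 (AdicCompletion.flat_of_isNoetherian (IsLocalRing.maximalIdeal A)))
  have H : IsPullback (pullback.fst f g) (pullback.snd f g) f g := IsPullback.of_hasPullback f g
  haveI := isIso_pushoutSection_of_isQuasiSeparated_of_flat_right H (US := ⊤) (UT := ⊤) (UX := ⊤) (UY := ⊤)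
    le_top le_top (by simp) (isAffineOpen_top _) (isAffineOpen_top _) isCompact_univ isQuasiSeparated_univ
  have h1 := (isIso_pushoutSection_iff H (US := ⊤) (UT := ⊤) (UX := ⊤) (UY := ⊤) le_top le_top (by simp)).1 this
  have h2 := CommRingCat.isPushout_tensorProduct A Γ(X, ⊤) Ah
  have h3 : IsPushout (CommRingCat.ofHom (algebraMap A Γ(X, ⊤))) (CommRingCat.ofHom (algebraMap A Ah))
      ((pullback.fst f g).appLE ⊤ ⊤ (by simp))
      ((Scheme.ΓSpecIso (CommRingCat.of Ah)).inv ≫ (pullback.snd f g).appLE ⊤ ⊤ (by simp)) := by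
    refine h1.of_iso (Scheme.ΓSpecIso (CommRingCat.of A)) (Iso.refl _) (Scheme.ΓSpecIso (CommRingCat.of Ah))
      (Iso.refl _) ?_ ?_ ?_ ?_
    · rw [Iso.refl_hom, Category.comp_id, ← Iso.inv_comp_eq]
      have e : f.appLE ⊤ ⊤ le_top = f.appTop := Scheme.Hom.app_eq_appLE f |>.symm
      rw [e]
      rfl
    · rw [show g.appLE ⊤ ⊤ _ = g.app ⊤ from (Scheme.Hom.app_eq_appLE g).symm]
      exact Scheme.ΓSpecIso_naturality _
    · simp
    · simp
  exact ⟨(h3.isoIsPushout _ _ h2).commRingCatIsoToRingEquiv⟩

/-- Global functions on a Noetherian normal scheme form a normal ring. -/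
theorem isNormalRing_sections (Y : Scheme.{u}) [IsNoetherian Y] (hY : Pi1.IsNormalScheme Y) :
    EGA4.IsNormalRing Γ(Y, ⊤) := by
  have hdom : ∀ y : Y, IsDomain (Y.presheaf.stalk y) := fun y => (hY y).1
  have hfin : (irreducibleComponents (Y : Type u)).Finite := NoetherianSpace.finite_irreducibleComponents
  haveI := hfin.to_subtype
  have hopen : ∀ Z ∈ irreducibleComponents (Y : Type u), IsOpen Z := fun Z hZ =>
    Props.Components.isOpen_of_locally_finite hdom (fun y => ⟨⊤, trivial, hfin.subset fun W hW => hW.1⟩) Z hZ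
  let V : irreducibleComponents (Y : Type u) → Y.Opens := fun Z => ⟨Z.1, hopen _ Z.2⟩
  have hcov : ∀ y : Y, ∃ Z, y ∈ V Z := fun y =>
    ⟨⟨irreducibleComponent y, irreducibleComponent_mem_irreducibleComponents y⟩, mem_irreducibleComponent⟩
  let ρ : Γ(Y, ⊤) →+* ∀ Z, Γ(Y, V Z) := RingHom.pi fun Z => (Y.presheaf.map (homOfLE le_top).op).hom
  have hρ : Function.Bijective ρ := by
    refine ⟨fun a b hab => ?_, fun s => ?_⟩
    · exact TopCat.Sheaf.eq_of_locally_eq' Y.sheaf V ⊤ (fun Z => homOfLE le_top)
        (fun y _ => Opens.mem_iSup.2 (hcov y)) a b fun Z => congrFun hab Z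
    · obtain ⟨t, ht, -⟩ := TopCat.Sheaf.existsUnique_gluing' Y.sheaf V ⊤ (fun Z => homOfLE le_top)
        (fun y _ => Opens.mem_iSup.2 (hcov y)) s fun Z Z' => by
          by_cases he : Z = Z'
          · subst he; rfl
          · have hbot : V Z ⊓ V Z' = ⊥ := eq_bot_iff.2 fun y hy => he (Subtype.ext
              ((Props.Components.existsUnique_component hdom y).unique ⟨Z.2, hy.1⟩ ⟨Z'.2, hy.2⟩))
            refine TopCat.Presheaf.section_ext Y.sheaf _ _ _ fun y hy => ?_
            have hy' : y ∈ V Z ⊓ V Z' := hy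
            rw [hbot] at hy'
            exact hy'.elim
      exact ⟨t, funext ht⟩
  refine EGA4Lib.isNormalRing_of_ringEquiv (RingEquiv.ofBijective ρ hρ).symm
    (Groth.Agent.S6279.result (fun Z => (Γ(Y, V Z) : Type u)) fun Z => ?_)
  haveI : Nonempty (V Z).toScheme := Z.2.1.1.to_subtype
  haveI : IsReduced Y := by
    haveI : ∀ y : Y, _root_.IsReduced (Y.presheaf.stalk y) := fun y => haveI := hdom y; inferInstance
    exact isReduced_of_isReduced_stalk Y
  haveI : IrreducibleSpace (V Z).toScheme := Subtype.irreducibleSpace (show IsIrreducible ((V Z : Y.Opens) : Set Y) from Z.2.1)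
  haveI : IsReduced (V Z).toScheme := isReduced_of_isOpenImmersion (V Z).ι
  haveI : IsIntegral (V Z).toScheme := isIntegral_of_irreducibleSpace_of_isReduced _
  have hVn : Pi1.IsNormalScheme (V Z).toScheme := fun x => by
    haveI := (hY ((V Z).ι x)).1
    haveI := (hY ((V Z).ι x)).2
    let e := (asIso ((V Z).ι.stalkMap x)).commRingCatIsoToRingEquiv
    exact ⟨e.symm.toMulEquiv.isDomain, IsIntegrallyClosed.of_equiv e⟩
  haveI := Groth.Agent.S2102.result _ hVn
  haveI : Nonempty ((⊤ : (V Z).toScheme.Opens) : Type u) := ⟨⟨Classical.arbitrary _, trivial⟩⟩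
  haveI : IsDomain Γ((V Z).toScheme, ⊤) := IsIntegral.component_integral _
  exact EGA4Lib.isNormalRing_of_ringEquiv (V Z).topIso.commRingCatIsoToRingEquiv
    (GeomFieldLib.isNormalRing_of_isDomain _)

end Groth.Agent.CplBC
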